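import Mathlib
import Groth.Agent.Exal.Basic
import Groth.Agent.ArtFunLib.FlatSeq

/-!
# Extensions of local rings by the residue field
-/

universe u

open IsLocalRing

noncomputable section

namespace Groth.Agent.ExalObs

variable {Λ R : Type u} [CommRing Λ] [CommRing R] [Algebra Λ R] [IsLocalRing R]
  (X : _root_.Exal.Ext Λ R (ResidueField R))

lemma ker_isNilpotent : IsNilpotent (RingHom.ker X.proj.toRingHom) := ⟨2, by
  rw [pow_two, Submodule.zero_eq_bot, eq_bot_iff, Ideal.mul_le]
  intro x hx y hy
  obtain ⟨z, rfl⟩ := (X.isExtension.exact x).1 hx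
  obtain ⟨z', rfl⟩ := (X.isExtension.exact y).1 hy
  rw [Exal.incl_mul_incl]; exact zero_mem _⟩

lemma ker_eq_span : RingHom.ker X.proj.toRingHom = Ideal.span {X.incl 1} := by
  refine le_antisymm (fun x hx => ?_) ((Ideal.span_singleton_le_iff_mem _).2 (Exal.proj_incl X 1))
  obtain ⟨z, rfl⟩ := (X.isExtension.exact x).1 hx
  obtain ⟨r, rfl⟩ := residue_surjective z
  obtain ⟨e, he⟩ := X.isExtension.proj_surjective r
  refine Ideal.mem_span_singleton'.2 ⟨e, ?_⟩
  rw [X.isExtension.mul_incl, he]
  exact congrArg X.incl (Algebra.algebraMap_eq_smul_one r).symm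

lemma isLocalRing : IsLocalRing X.E := by
  let eq := RingHom.quotientKerEquivOfSurjective (f := X.proj.toRingHom) X.isExtension.proj_surjective
  haveI : IsLocalRing (X.E ⧸ RingHom.ker X.proj.toRingHom) := eq.symm.isLocalRing
  exact ArtFunLib.FlatSeq.isLocalRing_of_nilpotent _ (ker_isNilpotent X)

lemma isNoetherianRing [IsNoetherianRing R] : IsNoetherianRing X.E := by
  let eq := RingHom.quotientKerEquivOfSurjective (f := X.proj.toRingHom) X.isExtension.proj_surjective
  haveI : IsNoetherianRing (X.E ⧸ RingHom.ker X.proj.toRingHom) := isNoetherianRing_of_ringEquiv R eq.symm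
  exact ArtFunLib.FlatSeq.isNoetherianRing_of_nilpotent _ (ker_isNilpotent X)
    (ker_eq_span X ▸ Submodule.fg_span_singleton _)

lemma maximalIdeal_eq [IsLocalRing X.E] :
    maximalIdeal X.E = (maximalIdeal R).comap X.proj.toRingHom := by
  haveI := Ideal.comap_isMaximal_of_surjective X.proj.toRingHom X.isExtension.proj_surjective
    (K := maximalIdeal R)
  exact (IsLocalRing.eq_maximalIdeal this).symm

lemma mul_incl_one {e : X.E} (he : X.proj e ∈ maximalIdeal R) : e * X.incl 1 = 0 := by
  rw [X.isExtension.mul_incl]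
  have : residue R (X.proj e) = 0 := Ideal.Quotient.eq_zero_iff_mem.2 he
  rw [show X.proj e • (1 : ResidueField R) = residue R (X.proj e) from
    (Algebra.algebraMap_eq_smul_one _).symm, this, map_zero]

end Groth.Agent.ExalObs
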