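import Mathlib

/-!
# Left exactness of the conormal sequence of a square-zero extension
-/

set_option autoImplicit false

universe u

open TensorProduct KaehlerDifferential

namespace Groth.Agent.ExalObs

/-- In a reduced ring, an element of a projective module which vanishes at every minimal prime
is zero. -/
theorem eq_zero_of_forall_minimalPrimes {B : Type*} [CommRing B] [IsReduced B]
    {M : Type*} [AddCommGroup M] [Module B M] [Module.Projective B M] (c : M)
    (hc : ∀ p ∈ minimalPrimes B, ∃ s ∉ p, s • c = 0) : c = 0 := by
  obtain ⟨f, hf⟩ := Module.projective_def.mp ‹Module.Projective B M›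
  have : f c = 0 := by
    ext i
    have hmem : f c i ∈ sInf (minimalPrimes B) := by
      refine Ideal.mem_sInf.mpr fun {p} hp ↦ ?_
      obtain ⟨s, hs, hsc⟩ := hc p hp
      have h0 : s * f c i = 0 := by
        simpa [hsc] using (DFunLike.congr_fun (map_smul f s c) i).symm
      exact ((Ideal.minimalPrimes_isPrime hp).mem_or_mem (h0 ▸ p.zero_mem)).resolve_left hs
    have heq : sInf (minimalPrimes B) = nilradical B := Ideal.sInf_minimalPrimes
    rw [heq, nilradical_eq_zero] at hmem
    simpa using hmem
  rw [← hf c, this, map_zero]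

/-- The kernel of `M → B ⊗[E] M` for a surjection `E → B` with kernel `I` is `I • M`. -/
theorem mem_smul_top_of_one_tmul_eq_zero {E B : Type*} [CommRing E] [CommRing B] [Algebra E B]
    (hsurj : Function.Surjective (algebraMap E B)) {M : Type*} [AddCommGroup M] [Module E M]
    {m : M} (h : (1 : B) ⊗ₜ[E] m = 0) :
    m ∈ RingHom.ker (algebraMap E B) • (⊤ : Submodule E M) := by
  have ex : Function.Exact
      (LinearMap.rTensor M (RingHom.ker (algebraMap E B)).subtype)
      (LinearMap.rTensor M (Algebra.linearMap E B)) := by
    refine rTensor_exact M ?_ hsurj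
    intro x
    simp [RingHom.mem_ker]
  obtain ⟨t, ht⟩ := (ex ((1 : E) ⊗ₜ m)).mp (by simpa using h)
  have key : ∀ t, TensorProduct.lid E M
      (LinearMap.rTensor M (RingHom.ker (algebraMap E B)).subtype t) ∈
        RingHom.ker (algebraMap E B) • (⊤ : Submodule E M) := by
    intro t
    induction t with
    | zero => simp
    | tmul i x => simpa using Submodule.smul_mem_smul i.2 Submodule.mem_top
    | add x y hx hy => simp only [map_add]; exact add_mem hx hy
  simpa [ht] using key t

variable {A B : Type u} [CommRing A] [CommRing B] [Algebra A B]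

/-- Local step: an element killed by the conormal map of a square-zero extension vanishes near
a smooth point. -/
theorem exists_smul_eq_zero_of_cotangentComplex_eq_zero (P : Algebra.Extension.{u} A B)
    (hsq : P.ker ^ 2 = ⊥) (p : Ideal B) [p.IsPrime] (hp : Algebra.IsSmoothAt A p)
    (c : P.Cotangent) (hc : P.cotangentComplex c = 0) : ∃ s ∉ p, s • c = 0 := by
  obtain ⟨x, rfl⟩ := Algebra.Extension.Cotangent.mk_surjective c
  let q : Ideal P.Ring := p.comap (algebraMap P.Ring B)
  have : q.IsPrime := Ideal.IsPrime.comap _
  let g : Localization.AtPrime q →ₐ[A] Localization.AtPrime p :=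
    Localization.localAlgHom q p (IsScalarTower.toAlgHom A P.Ring B) rfl
  have hg_map : ∀ e : P.Ring, g (algebraMap _ _ e) = algebraMap _ _ (algebraMap P.Ring B e) := by
    intro e
    simp [g]
  have hg : Function.Surjective g := by
    intro y
    obtain ⟨b, t, rfl⟩ := IsLocalization.exists_mk'_eq p.primeCompl y
    have ht : P.σ t.1 ∈ q.primeCompl := by
      show P.σ t.1 ∉ q
      exact fun h ↦ t.2 (by simpa [q] using! h)
    refine ⟨IsLocalization.mk' _ (P.σ b) ⟨_, ht⟩, ?_⟩
    simp [g]
  have hker : RingHom.ker (g : Localization.AtPrime q →+* Localization.AtPrime p) ^ 2 = ⊥ := by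
    have hle : RingHom.ker (g : Localization.AtPrime q →+* Localization.AtPrime p) ≤
        P.ker.map (algebraMap P.Ring (Localization.AtPrime q)) := by
      intro z hz
      obtain ⟨e, t, rfl⟩ := IsLocalization.exists_mk'_eq q.primeCompl z
      have h0 : algebraMap B (Localization.AtPrime p) (algebraMap P.Ring B e) = 0 := by
        have hspec : IsLocalization.mk' (Localization.AtPrime q) e t *
            algebraMap _ _ (t : P.Ring) = algebraMap _ _ e := IsLocalization.mk'_spec _ e t
        have hz' : g (IsLocalization.mk' (Localization.AtPrime q) e t) = 0 := hz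
        rw [← hg_map, ← hspec, map_mul, hz', zero_mul]
      obtain ⟨m, hm⟩ := (IsLocalization.map_eq_zero_iff p.primeCompl _ _).mp h0
      rw [IsLocalization.mk'_mem_map_algebraMap_iff]
      refine ⟨P.σ m.1, ?_, ?_⟩
      · show P.σ m.1 ∉ q
        exact fun h ↦ m.2 (by simpa [q] using! h)
      · simpa [RingHom.mem_ker] using hm
    refine eq_bot_mono (Ideal.pow_right_mono hle 2) ?_
    rw [← Ideal.map_pow, hsq, Ideal.map_bot]
  have hnil : IsNilpotent (RingHom.ker (g : Localization.AtPrime q →+* Localization.AtPrime p)) :=
    ⟨2, hker⟩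
  have : Algebra.FormallySmooth A (Localization.AtPrime p) := hp
  let sec : Localization.AtPrime p →ₐ[A] Localization.AtPrime q :=
    Algebra.FormallySmooth.liftOfSurjective (AlgHom.id A _) g hg hnil
  have hsec : ∀ y, g (sec y) = y := fun y ↦
    Algebra.FormallySmooth.liftOfSurjective_apply _ g hg hnil y
  let pr : P.Ring →ₐ[A] Localization.AtPrime p :=
    (IsScalarTower.toAlgHom A B (Localization.AtPrime p)).comp
      (IsScalarTower.toAlgHom A P.Ring B)
  let ι : P.Ring →ₐ[A] Localization.AtPrime q :=
    IsScalarTower.toAlgHom A P.Ring (Localization.AtPrime q)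
  have hmul : ∀ u v : Localization.AtPrime q, g u = 0 → g v = 0 → u * v = 0 := by
    intro u v hu hv
    have : u * v ∈ RingHom.ker (g : Localization.AtPrime q →+* Localization.AtPrime p) ^ 2 := by
      rw [pow_two]; exact Ideal.mul_mem_mul hu hv
    rwa [hker, Ideal.mem_bot] at this
  have hD0 : ∀ e, g (ι e - sec (pr e)) = 0 := by
    intro e
    rw [map_sub, hsec]
    simp [ι, pr, hg_map]
  let D : Derivation A P.Ring (Localization.AtPrime q) :=
    Derivation.mk' (ι.toLinearMap - sec.toLinearMap ∘ₗ pr.toLinearMap) (by
      intro a b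
      have h := hmul _ _ (hD0 a) (hD0 b)
      simp only [LinearMap.sub_apply, LinearMap.comp_apply, AlgHom.toLinearMap_apply, map_mul,
        Algebra.smul_def]
      change _ = ι a * _ + ι b * _
      linear_combination -h)
  let φ := D.liftKaehlerDifferential
  have hφ : ∀ w, g (φ w) = 0 := by
    intro w
    have hw : w ∈ Submodule.span P.Ring (Set.range (KaehlerDifferential.D A P.Ring)) := by
      rw [KaehlerDifferential.span_range_derivation]; trivial
    induction hw using Submodule.span_induction with
    | mem y hy =>
      obtain ⟨e, rfl⟩ := hy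
      rw [Derivation.liftKaehlerDifferential_comp_D]
      exact hD0 e
    | zero => simp
    | add _ _ _ _ h₁ h₂ => simp [h₁, h₂]
    | smul a y _ h => simp [Algebra.smul_def, h]
  have hφI : ∀ w ∈ P.ker • (⊤ : Submodule P.Ring (Ω[P.Ring⁄A])), φ w = 0 := by
    intro w hw
    refine Submodule.smul_induction_on hw ?_ ?_
    · intro i hi m _
      rw [map_smul, Algebra.smul_def]
      refine hmul _ _ ?_ (hφ m)
      rw [hg_map, show algebraMap P.Ring B i = 0 from hi, map_zero]
    · intro a b ha hb
      rw [map_add, ha, hb, add_zero]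
  have hx : algebraMap P.Ring (Localization.AtPrime q) x.1 = 0 := by
    rw [Algebra.Extension.cotangentComplex_mk] at hc
    have h := hφI _ (mem_smul_top_of_one_tmul_eq_zero P.algebraMap_surjective hc)
    rw [Derivation.liftKaehlerDifferential_comp_D] at h
    simpa [D, ι, pr, show algebraMap P.Ring B x.1 = 0 from x.2] using h
  obtain ⟨m, hm⟩ := (IsLocalization.map_eq_zero_iff q.primeCompl _ _).mp hx
  refine ⟨algebraMap P.Ring B m.1, m.2, ?_⟩
  rw [algebraMap_smul, ← map_smul]
  have : (m.1 • x : P.ker) = 0 := Subtype.ext hm
  rw [this, map_zero]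

/-- The conormal map of a square-zero extension of a reduced algebra, smooth at all minimal
primes, by a projective module is injective. -/
theorem cotangentComplex_injective [IsReduced B]
    (hsm : ∀ p : PrimeSpectrum B, p.asIdeal ∈ minimalPrimes B → Algebra.IsSmoothAt A p.asIdeal)
    (P : Algebra.Extension.{u} A B) (hsq : P.ker ^ 2 = ⊥)
    [Module.Projective B P.Cotangent] :
    Function.Injective P.cotangentComplex := by
  rw [injective_iff_map_eq_zero]
  intro c hc
  refine eq_zero_of_forall_minimalPrimes (B := B) c fun p hp ↦ ?_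
  have : p.IsPrime := Ideal.minimalPrimes_isPrime hp
  exact exists_smul_eq_zero_of_cotangentComplex_eq_zero P hsq p (hsm ⟨p, this⟩ hp) c hc

end Groth.Agent.ExalObs
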