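import Groth.Agent.ExalObs.Conormal

/-!
# Square-zero extensions are determined by their conormal sequences
-/

set_option autoImplicit false

universe u

open TensorProduct KaehlerDifferential

namespace Groth.Agent.ExalObs

variable {A B : Type u} [CommRing A] [CommRing B] [Algebra A B]

theorem one_tmul_D_mul (P : Algebra.Extension.{u} A B) (a b : P.Ring) :
    ((1 : B) ⊗ₜ KaehlerDifferential.D A P.Ring (a * b) : P.CotangentSpace) =
      algebraMap P.Ring B a • (1 ⊗ₜ KaehlerDifferential.D A P.Ring b) +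
        algebraMap P.Ring B b • (1 ⊗ₜ KaehlerDifferential.D A P.Ring a) := by
  rw [Derivation.leibniz, tmul_add, tmul_smul, tmul_smul, algebraMap_smul, algebraMap_smul]

theorem toKaehler_one_tmul_D (P : Algebra.Extension.{u} A B) (a : P.Ring) :
    P.toKaehler (1 ⊗ₜ KaehlerDifferential.D A P.Ring a) =
      KaehlerDifferential.D A B (algebraMap P.Ring B a) := by
  simp

/-- An element of a square-zero extension with injective conormal map is determined by its image
and its differential. -/
theorem ext_of_differential (P : Algebra.Extension.{u} A B) (hsq : P.ker ^ 2 = ⊥)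
    (hinj : Function.Injective P.cotangentComplex) {a b : P.Ring}
    (h₁ : algebraMap P.Ring B a = algebraMap P.Ring B b)
    (h₂ : ((1 : B) ⊗ₜ KaehlerDifferential.D A P.Ring a : P.CotangentSpace) =
      1 ⊗ₜ KaehlerDifferential.D A P.Ring b) : a = b := by
  have hmem : a - b ∈ P.ker := by rw [RingHom.mem_ker, map_sub, h₁, sub_self]
  have h0 : P.cotangentComplex (Algebra.Extension.Cotangent.mk ⟨a - b, hmem⟩) = 0 := by
    rw [Algebra.Extension.cotangentComplex_mk, map_sub, tmul_sub, h₂, sub_self]
  have h1 := (Algebra.Extension.Cotangent.mk_eq_zero_iff _).mp (hinj (h0.trans (map_zero _).symm))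
  rw [hsq, Ideal.mem_bot] at h1
  exact sub_eq_zero.mp h1

/-- An isomorphism of conormal sequences of square-zero extensions with injective conormal maps
comes from an isomorphism of extensions. -/
theorem exists_hom_of_iso (P P' : Algebra.Extension.{u} A B) (hsq : P.ker ^ 2 = ⊥)
    (hsq' : P'.ker ^ 2 = ⊥) (hinj : Function.Injective P.cotangentComplex)
    (hinj' : Function.Injective P'.cotangentComplex)
    (e₁ : P.Cotangent ≃ₗ[B] P'.Cotangent) (e₂ : P.CotangentSpace ≃ₗ[B] P'.CotangentSpace)
    (h₁ : ∀ x, e₂ (P.cotangentComplex x) = P'.cotangentComplex (e₁ x))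
    (h₂ : ∀ y, P'.toKaehler (e₂ y) = P.toKaehler y) :
    ∃ f : P.Hom P', Function.Bijective f.toRingHom ∧
      Algebra.Extension.Cotangent.map f = e₁.toLinearMap := by
  have key : ∀ e : P.Ring, ∃ e' : P'.Ring, algebraMap P'.Ring B e' = algebraMap P.Ring B e ∧
      ((1 : B) ⊗ₜ KaehlerDifferential.D A P'.Ring e' : P'.CotangentSpace) =
        e₂ (1 ⊗ₜ KaehlerDifferential.D A P.Ring e) := by
    intro e
    let e₀ := P'.σ (algebraMap P.Ring B e)
    have h0 : P'.toKaehler (e₂ (1 ⊗ₜ KaehlerDifferential.D A P.Ring e) -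
        1 ⊗ₜ KaehlerDifferential.D A P'.Ring e₀) = 0 := by
      rw [map_sub, h₂, toKaehler_one_tmul_D, toKaehler_one_tmul_D, P'.algebraMap_σ, sub_self]
    obtain ⟨c, hc⟩ := (Algebra.Extension.exact_cotangentComplex_toKaehler _).mp h0
    obtain ⟨x, rfl⟩ := Algebra.Extension.Cotangent.mk_surjective c
    refine ⟨e₀ + x.1, ?_, ?_⟩
    · rw [map_add, P'.algebraMap_σ, x.2, add_zero]
    · rw [Algebra.Extension.cotangentComplex_mk] at hc
      rw [map_add, tmul_add, hc, add_sub_cancel]
  choose f hfa hfd using key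
  have huniq : ∀ (e : P.Ring) (e' : P'.Ring),
      algebraMap P'.Ring B e' = algebraMap P.Ring B e →
      ((1 : B) ⊗ₜ KaehlerDifferential.D A P'.Ring e' : P'.CotangentSpace) =
        e₂ (1 ⊗ₜ KaehlerDifferential.D A P.Ring e) → f e = e' := fun e e' h h' ↦
    ext_of_differential P' hsq' hinj' ((hfa e).trans h.symm) ((hfd e).trans h'.symm)
  let φ : P.Ring →+* P'.Ring :=
    { toFun := f
      map_one' := huniq _ _ (by simp) (by simp)
      map_zero' := huniq _ _ (by simp) (by simp)
      map_add' := fun a b ↦ huniq _ _ (by simp [hfa]) (by simp [tmul_add, hfd])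
      map_mul' := fun a b ↦ huniq _ _ (by simp [hfa]) (by
        rw [one_tmul_D_mul, one_tmul_D_mul, hfa, hfa, hfd, hfd, map_add, map_smul, map_smul]) }
  let F : P.Hom P' :=
    { toRingHom := φ
      toRingHom_algebraMap := fun a ↦ huniq _ _
        (by simp [← IsScalarTower.algebraMap_apply]) (by simp)
      algebraMap_toRingHom := fun e ↦ hfa e }
  have hker : ∀ x : P.ker, f x.1 ∈ P'.ker := fun x ↦ by
    rw [RingHom.mem_ker, hfa]; exact x.2
  have hmap : ∀ x : P.ker, Algebra.Extension.Cotangent.mk ⟨f x.1, hker x⟩ =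
      e₁ (Algebra.Extension.Cotangent.mk x) := by
    intro x
    apply hinj'
    rw [← h₁, Algebra.Extension.cotangentComplex_mk, Algebra.Extension.cotangentComplex_mk]
    exact hfd x.1
  refine ⟨F, ⟨?_, ?_⟩, ?_⟩
  · rw [injective_iff_map_eq_zero]
    intro e he
    have he' : f e = 0 := he
    refine ext_of_differential P hsq hinj ?_ (e₂.injective ?_)
    · rw [← hfa, he', map_zero, map_zero]
    · rw [← hfd, he']; simp
  · intro e'
    let e₀ := P.σ (algebraMap P'.Ring B e')
    have hd : e' - f e₀ ∈ P'.ker := by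
      rw [RingHom.mem_ker, map_sub, hfa, P.algebraMap_σ, sub_self]
    obtain ⟨x, hx⟩ := Algebra.Extension.Cotangent.mk_surjective
      (e₁.symm (Algebra.Extension.Cotangent.mk ⟨_, hd⟩))
    refine ⟨e₀ + x.1, ?_⟩
    have h3 := hmap x
    rw [hx, e₁.apply_symm_apply] at h3
    have h4 := (Algebra.Extension.Cotangent.mk_eq_mk_iff_sub_mem _ _).mp h3
    rw [hsq', Ideal.mem_bot, sub_eq_zero] at h4
    rw [map_add]
    change f e₀ + f x.1 = e'
    rw [show f x.1 = e' - f e₀ from h4, add_sub_cancel]
  · apply LinearMap.ext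
    intro c
    obtain ⟨x, rfl⟩ := Algebra.Extension.Cotangent.mk_surjective c
    rw [Algebra.Extension.Cotangent.map_mk]
    exact hmap x

end Groth.Agent.ExalObs
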