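import Mathlib

/-!
# A square-zero extension realizing a given extension of the module of differentials
-/

set_option autoImplicit false

universe u

open TensorProduct KaehlerDifferential TrivSqZeroExt

namespace Groth.Agent.ExalObs

/-- Every extension `0 → M → N → Ω_{B/A} → 0` is the conormal sequence of a square-zero
extension of `B`, namely the fibre product of `D : B → Ω` and `N → Ω` inside `B ⋉ N`. -/
theorem exists_extension_realizing {A B : Type u} [CommRing A] [CommRing B] [Algebra A B]
    (M N : Type u) [AddCommGroup M] [Module B M] [AddCommGroup N] [Module B N]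
    (i : M →ₗ[B] N) (q : N →ₗ[B] Ω[B⁄A]) (hi : Function.Injective i) (hq : Function.Surjective q)
    (hex : Function.Exact i q) :
    ∃ P : Algebra.Extension.{u} A B, P.ker ^ 2 = ⊥ ∧
      ∃ (e₁ : P.Cotangent ≃ₗ[B] M) (e₂ : P.CotangentSpace ≃ₗ[B] N),
        (∀ x, e₂ (P.cotangentComplex x) = i (e₁ x)) ∧ (∀ y, q (e₂ y) = P.toKaehler y) := by
  letI : Module Bᵐᵒᵖ N := Module.compHom N ((RingHom.id B).fromOpposite mul_comm)
  haveI : IsCentralScalar B N := ⟨fun _ _ ↦ rfl⟩
  letI : Module A N := Module.compHom N (algebraMap A B)
  haveI : IsScalarTower A B N := ⟨fun a b n ↦ by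
    change _ = algebraMap A B a • b • n
    rw [Algebra.smul_def, mul_smul]⟩
  haveI : IsScalarTower A Bᵐᵒᵖ N := ⟨fun a b n ↦ by
    change (a • b.unop) • n = a • b.unop • n
    exact smul_assoc a b.unop n⟩
  let d : B → Ω[B⁄A] := KaehlerDifferential.D A B
  let E : Subalgebra A (TrivSqZeroExt B N) :=
    { carrier := {x | d x.fst = q x.snd}
      mul_mem' := fun {x y} hx hy ↦ by
        simp only [Set.mem_ofPred_eq, d] at hx hy ⊢
        simp [Derivation.leibniz, hx, hy, map_add, map_smul]
      one_mem' := by simp [d]
      add_mem' := fun {x y} hx hy ↦ by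
        simp only [Set.mem_ofPred_eq, d] at hx hy ⊢
        simp [hx, hy]
      zero_mem' := by simp [d]
      algebraMap_mem' := fun a ↦ by simp [d, TrivSqZeroExt.algebraMap_eq_inl'] }
  have hmem : ∀ x : TrivSqZeroExt B N, x ∈ E ↔ d x.fst = q x.snd := fun _ ↦ Iff.rfl
  let f : E →ₐ[A] B := (fstHom A B N).comp E.val
  have hf : Function.Surjective f := by
    intro b
    obtain ⟨n, hn⟩ := hq (d b)
    exact ⟨⟨inl b + inr n, by simp [hmem, hn]⟩, by simp [f]⟩
  let P : Algebra.Extension.{u} A B := Algebra.Extension.ofSurjective f hf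
  -- elements of `P.Ring` are elements of `E`
  let val : P.Ring → TrivSqZeroExt B N := fun x ↦ (x : E).1
  have val_inj : Function.Injective val := Subtype.val_injective
  have halg : ∀ x : P.Ring, algebraMap P.Ring B x = (val x).fst := fun _ ↦ rfl
  have hprop : ∀ x : P.Ring, d (val x).fst = q (val x).snd := fun x ↦ (x : E).2
  have hval_add : ∀ x y : P.Ring, val (x + y) = val x + val y := fun _ _ ↦ rfl
  have hval_mul : ∀ x y : P.Ring, val (x * y) = val x * val y := fun _ _ ↦ rfl
  have hval_zero : val 0 = 0 := rfl
  have hsq : P.ker ^ 2 = ⊥ := by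
    rw [pow_two, eq_bot_iff, Ideal.mul_le]
    intro x hx y hy
    rw [RingHom.mem_ker, halg] at hx hy
    rw [Ideal.mem_bot]
    refine val_inj ?_
    rw [hval_mul, hval_zero]
    ext <;> simp [hx, hy]
  -- the kernel
  let inc : M → P.ker := fun m ↦ ⟨(⟨inr (i m), by
      simp [hmem, d, hex.apply_apply_eq_zero]⟩ : E), by
    rw [RingHom.mem_ker, halg]; simp [val]⟩
  have hinc : ∀ m, val (inc m).1 = inr (i m) := fun _ ↦ rfl
  let j : M →ₗ[B] P.Cotangent :=
    { toFun := fun m ↦ Algebra.Extension.Cotangent.mk (inc m)
      map_add' := fun m m' ↦ by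
        rw [← map_add]
        congr 1
        refine Subtype.ext (val_inj ?_)
        rw [Submodule.coe_add, hval_add, hinc, hinc, hinc, map_add, inr_add]
      map_smul' := fun b m ↦ by
        have key : b • Algebra.Extension.Cotangent.mk (inc m) =
            Algebra.Extension.Cotangent.mk (P.σ b • inc m) := by
          conv_lhs => rw [← P.algebraMap_σ b]
          rw [algebraMap_smul, map_smul]
        rw [RingHom.id_apply, key]
        congr 1
        refine Subtype.ext (val_inj ?_)
        rw [Submodule.coe_smul_of_tower, smul_eq_mul, hval_mul, hinc, hinc]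
        ext
        · simp
        · simp [← halg] }
  have hj : Function.Bijective j := by
    constructor
    · intro m m' h
      have h2 := (Algebra.Extension.Cotangent.mk_eq_mk_iff_sub_mem _ _).mp h
      rw [hsq, Ideal.mem_bot, sub_eq_zero] at h2
      apply hi
      have h3 := congrArg TrivSqZeroExt.snd (congrArg val h2)
      simpa [hinc] using h3
    · intro c
      obtain ⟨x, rfl⟩ := Algebra.Extension.Cotangent.mk_surjective c
      have h0 : (val x.1).fst = 0 := (halg x.1).symm.trans x.2
      have hq0 : q (val x.1).snd = 0 := by rw [← hprop, h0]; simp [d]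
      obtain ⟨m, hm⟩ := (hex _).mp hq0
      refine ⟨m, congrArg Algebra.Extension.Cotangent.mk (Subtype.ext (val_inj ?_))⟩
      rw [hinc]
      ext <;> simp [h0, hm]
  -- the map from differentials
  letI : Module P.Ring N := Module.compHom N (algebraMap P.Ring B)
  haveI : IsScalarTower P.Ring B N := ⟨fun x b n ↦ by
    change _ = algebraMap P.Ring B x • b • n
    rw [Algebra.smul_def, mul_smul]⟩
  haveI : IsScalarTower A P.Ring N := ⟨fun a x n ↦ by
    change algebraMap P.Ring B (a • x) • n = algebraMap A B a • algebraMap P.Ring B x • n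
    rw [Algebra.smul_def, map_mul, mul_smul, ← IsScalarTower.algebraMap_apply]⟩
  let δ : Derivation A P.Ring N := Derivation.mk'
    { toFun := fun x ↦ (val x).snd
      map_add' := fun x y ↦ by simp [hval_add]
      map_smul' := fun a x ↦ rfl }
    (fun x y ↦ by
      change (val (x * y)).snd = algebraMap P.Ring B x • _ + algebraMap P.Ring B y • _
      rw [hval_mul, halg, halg]
      simp)
  let ψ : P.CotangentSpace →ₗ[B] N := δ.liftKaehlerDifferential.liftBaseChange B
  have hψ : ∀ (b : B) (x : P.Ring), ψ (b ⊗ₜ KaehlerDifferential.D A P.Ring x) = b • (val x).snd := by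
    intro b x
    simp only [ψ, LinearMap.liftBaseChange_tmul, Derivation.liftKaehlerDifferential_comp_D]
    rfl
  have hψd : ∀ m, ψ (P.cotangentComplex (j m)) = i m := by
    intro m
    change ψ (P.cotangentComplex (Algebra.Extension.Cotangent.mk (inc m))) = _
    rw [Algebra.Extension.cotangentComplex_mk, hψ, hinc]
    simp
  have hψK : ∀ y, q (ψ y) = P.toKaehler y := by
    intro y
    induction y using TensorProduct.induction_on with
    | zero => simp
    | add y z hy hz => simp [hy, hz]
    | tmul b w =>
      have hw : w ∈ Submodule.span P.Ring (Set.range (KaehlerDifferential.D A P.Ring)) := by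
        rw [KaehlerDifferential.span_range_derivation]; trivial
      induction hw using Submodule.span_induction generalizing b with
      | mem w hw =>
        obtain ⟨x, rfl⟩ := hw
        rw [hψ, map_smul, ← hprop]
        simp [d, halg]
      | zero => simp
      | add v w _ _ hv hw => simp [tmul_add, hv, hw]
      | smul a w _ h => rw [← smul_tmul]; exact h _
  have hψbij : Function.Bijective ψ := by
    constructor
    · rw [injective_iff_map_eq_zero]
      intro y hy
      have h0 : P.toKaehler y = 0 := by rw [← hψK, hy, map_zero]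
      obtain ⟨c, rfl⟩ := (Algebra.Extension.exact_cotangentComplex_toKaehler y).mp h0
      obtain ⟨m, rfl⟩ := hj.2 c
      rw [hψd] at hy
      rw [hi (hy.trans i.map_zero.symm), map_zero, map_zero]
    · intro n
      obtain ⟨y, hy⟩ := P.toKaehler_surjective (q n)
      have h0 : q (n - ψ y) = 0 := by rw [map_sub, hψK, hy, sub_self]
      obtain ⟨m, hm⟩ := (hex _).mp h0
      exact ⟨y + P.cotangentComplex (j m), by rw [map_add, hψd, hm, add_sub_cancel]⟩
  refine ⟨P, hsq, (LinearEquiv.ofBijective j hj).symm, LinearEquiv.ofBijective ψ hψbij, ?_, hψK⟩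
  intro x
  obtain ⟨m, rfl⟩ := hj.2 x
  rw [LinearEquiv.ofBijective_symm_apply_apply]
  exact hψd m

end Groth.Agent.ExalObs
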