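import Mathlib
import Groth.Agent.Exal.Basic
import Groth.Agent.ArtFunLib.FlatSeq

/-!
# Extensions of local rings by simple modules, and their reduction along a completion
-/

universe u

open IsLocalRing

noncomputable section

namespace Groth.Agent.ExalObs.Simple

variable {Λ R L : Type u} [CommRing Λ] [CommRing R] [Algebra Λ R] [AddCommGroup L] [Module R L]
  [IsLocalRing R] (X : _root_.Exal.Ext Λ R L)

lemma ker_isNilpotent : IsNilpotent (RingHom.ker X.proj.toRingHom) := ⟨2, by
  rw [pow_two, Submodule.zero_eq_bot, eq_bot_iff, Ideal.mul_le]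
  intro x hx y hy
  obtain ⟨z, rfl⟩ := (X.isExtension.exact x).1 hx
  obtain ⟨z', rfl⟩ := (X.isExtension.exact y).1 hy
  rw [Exal.incl_mul_incl]; exact zero_mem _⟩

lemma isLocalRing : IsLocalRing X.E := by
  let eq := RingHom.quotientKerEquivOfSurjective (f := X.proj.toRingHom) X.isExtension.proj_surjective
  haveI : IsLocalRing (X.E ⧸ RingHom.ker X.proj.toRingHom) := eq.symm.isLocalRing
  exact ArtFunLib.FlatSeq.isLocalRing_of_nilpotent _ (ker_isNilpotent X)

lemma maximalIdeal_eq [IsLocalRing X.E] :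
    maximalIdeal X.E = (maximalIdeal R).comap X.proj.toRingHom := by
  haveI := Ideal.comap_isMaximal_of_surjective X.proj.toRingHom X.isExtension.proj_surjective
    (K := maximalIdeal R)
  exact (IsLocalRing.eq_maximalIdeal this).symm

lemma map_pow_maximalIdeal [IsLocalRing X.E] (n : ℕ) :
    (maximalIdeal X.E ^ n).map X.proj.toRingHom = maximalIdeal R ^ n := by
  rw [Ideal.map_pow, maximalIdeal_eq]
  exact congrArg (· ^ n) (Ideal.map_comap_of_surjective X.proj.toRingHom X.isExtension.proj_surjective _)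

variable {z₀ : L} (hgen : ∀ z : L, ∃ r : R, r • z₀ = z)

include hgen in
lemma ker_eq_span : RingHom.ker X.proj.toRingHom = Ideal.span {X.incl z₀} := by
  refine le_antisymm (fun x hx => ?_) ((Ideal.span_singleton_le_iff_mem _).2 (Exal.proj_incl X z₀))
  obtain ⟨z, rfl⟩ := (X.isExtension.exact x).1 hx
  obtain ⟨r, rfl⟩ := hgen z
  obtain ⟨e, he⟩ := X.isExtension.proj_surjective r
  exact Ideal.mem_span_singleton'.2 ⟨e, by rw [X.isExtension.mul_incl, he]⟩

include hgen in
lemma isNoetherianRing [IsNoetherianRing R] : IsNoetherianRing X.E := by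
  let eq := RingHom.quotientKerEquivOfSurjective (f := X.proj.toRingHom) X.isExtension.proj_surjective
  haveI : IsNoetherianRing (X.E ⧸ RingHom.ker X.proj.toRingHom) := isNoetherianRing_of_ringEquiv R eq.symm
  exact ArtFunLib.FlatSeq.isNoetherianRing_of_nilpotent _ (ker_isNilpotent X)
    (ker_eq_span X hgen ▸ Submodule.fg_span_singleton _)

variable (hm : ∀ r ∈ maximalIdeal R, ∀ z : L, r • z = 0)

include hm hgen in
/-- The kernel meets a high power of the maximal ideal trivially. -/
theorem exists_disjoint [IsNoetherianRing R] [IsLocalRing X.E] :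
    ∃ n, ∀ z, X.incl z ∈ maximalIdeal X.E ^ n → z = 0 := by
  haveI := isNoetherianRing X hgen
  by_cases h0 : z₀ = 0
  · exact ⟨0, fun z _ => by obtain ⟨r, rfl⟩ := hgen z; rw [h0, smul_zero]⟩
  obtain ⟨n, hn⟩ : ∃ n, X.incl z₀ ∉ maximalIdeal X.E ^ n := by
    by_contra hall
    push Not at hall
    refine h0 (X.isExtension.incl_injective ?_)
    rw [map_zero, ← Ideal.mem_bot, ← Ideal.iInf_pow_eq_bot_of_isLocalRing _ (maximalIdeal.isMaximal X.E).ne_top]
    exact (Submodule.mem_iInf _).2 hall
  refine ⟨n, fun z hz => ?_⟩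
  obtain ⟨r, rfl⟩ := hgen z
  by_contra hne
  obtain ⟨e, rfl⟩ := X.isExtension.proj_surjective r
  rw [← X.isExtension.mul_incl] at hz
  refine hn ((Ideal.unit_mul_mem_iff_mem _ ?_).1 hz)
  by_contra hu
  have : e ∈ maximalIdeal X.E := (mem_maximalIdeal _).2 hu
  rw [maximalIdeal_eq] at this
  exact hne (hm _ this z₀)

end Groth.Agent.ExalObs.Simple
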